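import Mathlib
import Groth.Agent.FlatLib.StageFlat
import Groth.Agent.DvrFlatLib.Global
import Groth.Agent.AlgSpLib.ValDvrExt

/-!
# Descent of flatness along the charts of a blow-up of a domain
-/

set_option autoImplicit false
set_option maxHeartbeats 1000000

noncomputable section

universe u

open TensorProduct FlatLib

attribute [local instance] MvPolynomial.algebraMvPolynomial

namespace FlatFPDomLib

/-- Flatness of base changes passes along algebra maps. -/
theorem flat_tensor_of_algHom {A S C M : Type u} [CommRing A] [CommRing S] [CommRing C] [AddCommGroup M]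
    [Module A M] [Algebra A S] [Algebra A C] (φ : S →ₐ[A] C) [Module.Flat S (S ⊗[A] M)] :
    Module.Flat C (C ⊗[A] M) := by
  letI : Algebra S C := φ.toRingHom.toAlgebra
  haveI : IsScalarTower A S C := IsScalarTower.of_algebraMap_eq fun a => (φ.commutes a).symm
  haveI : Module.Flat C (C ⊗[S] (S ⊗[A] M)) := inferInstance
  exact Module.Flat.of_linearEquiv (AlgebraTensorModule.cancelBaseChange A S C C M).symm

/-- The base change of a stage. -/
def bcEquiv {σ A₀ M₀ : Type u} [CommRing A₀] [AddCommGroup M₀] [Module A₀ M₀] [Module (MvPolynomial σ A₀) M₀]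
    [IsScalarTower A₀ (MvPolynomial σ A₀) M₀] (A C : Type u) [CommRing A] [CommRing C] [Algebra A₀ A] [Algebra A₀ C]
    [Algebra A C] [IsScalarTower A₀ A C] : C ⊗[A] BC σ A₀ M₀ A ≃ₗ[C] C ⊗[A₀] M₀ :=
  AlgebraTensorModule.congr (LinearEquiv.refl C C) (isBaseChange_inc σ A₀ M₀ A).equiv.symm ≪≫ₗ
    AlgebraTensorModule.cancelBaseChange A₀ A C C M₀

section Chart

variable (A : Type u) {K : Type u} [CommRing A] [Field K] [Algebra A K] {ι : Type u} (x : ι → K)

/-- The chart of the blow-up at a member of a family. -/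
def chart (j : ι) : Subalgebra A K :=
  Algebra.adjoin A (Set.range fun l => x l / x j)

variable {A}

theorem div_mem_chart (j l : ι) : x l / x j ∈ chart A x j :=
  Algebra.subset_adjoin ⟨l, rfl⟩

/-- An element of a chart only needs finitely many coefficients. -/
theorem exists_coeffs {R : Type u} [CommRing R] [Algebra R K] [Algebra A R] [IsScalarTower A R K] (j : ι) {z : K}
    (hz : z ∈ chart R x j) :
    ∃ G : Finset R, ∀ H : Finset R, G ⊆ H → z ∈ chart (stg A H) x j := by
  classical
  induction hz using Algebra.adjoin_induction with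
  | mem y hy => exact ⟨∅, fun H _ => Algebra.subset_adjoin hy⟩
  | algebraMap r =>
    exact ⟨{r}, fun H hH => Subalgebra.algebraMap_mem (chart (stg A H) x j)
      (⟨r, Algebra.subset_adjoin (Finset.mem_coe.2 (hH (Finset.mem_singleton_self r)))⟩ : stg A H)⟩
  | add a b _ _ ha hb =>
    obtain ⟨Ga, ha⟩ := ha; obtain ⟨Gb, hb⟩ := hb
    exact ⟨Ga ∪ Gb, fun H hH => add_mem (ha H (Finset.union_subset_left hH)) (hb H (Finset.union_subset_right hH))⟩
  | mul a b _ _ ha hb =>
    obtain ⟨Ga, ha⟩ := ha; obtain ⟨Gb, hb⟩ := hb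
    exact ⟨Ga ∪ Gb, fun H hH => mul_mem (ha H (Finset.union_subset_left hH)) (hb H (Finset.union_subset_right hH))⟩

end Chart

/-- A valuation ring of a field centred at a prime. -/
theorem exists_centred {A K : Type u} [CommRing A] [Field K] [Algebra A K]
    (hinj : Function.Injective (algebraMap A K)) (p : Ideal A) [p.IsPrime] :
    ∃ V : ValuationSubring K, ∃ h : ∀ a, algebraMap A K a ∈ V,
      ∀ a, (⟨algebraMap A K a, h a⟩ : V) ∈ IsLocalRing.maximalIdeal V ↔ a ∈ p := by
  have hu : ∀ y : p.primeCompl, IsUnit (algebraMap A K y) := fun y =>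
    (isUnit_iff_ne_zero).2 fun h0 => y.2 (by
      have : (y : A) = 0 := hinj (h0.trans (map_zero _).symm)
      rw [this]; exact p.zero_mem)
  let g : Localization.AtPrime p →+* K := IsLocalization.lift hu
  obtain ⟨V, hV⟩ := (LocalSubring.range g).exists_le_valuationSubring
  have hg : ∀ z, g z ∈ V := fun z => hV.1 ⟨z, rfl⟩
  have hga : ∀ a, g (algebraMap A _ a) = algebraMap A K a := IsLocalization.lift_eq hu
  have hmem : ∀ a, algebraMap A K a ∈ V := fun a => hga a ▸ hg _
  refine ⟨V, hmem, fun a => ⟨fun ha => ?_, fun ha => ?_⟩⟩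
  · by_contra hn
    refine ha ?_
    have h1 : IsUnit (g.codRestrict V.toSubring hg (algebraMap A _ a)) :=
      (IsLocalization.map_units (Localization.AtPrime p) (⟨a, hn⟩ : p.primeCompl)).map _
    have e : g.codRestrict V.toSubring hg (algebraMap A _ a) = (⟨algebraMap A K a, hmem a⟩ : V) := Subtype.ext (hga a)
    rwa [e] at h1
  · intro hunit
    have hloc : IsLocalHom (Subring.inclusion hV.1) := hV.2
    let r : (LocalSubring.range g).toSubring := ⟨g (algebraMap A _ a), _, rfl⟩
    have hr : IsUnit (Subring.inclusion hV.1 r) := by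
      have e : Subring.inclusion hV.1 r = (⟨algebraMap A K a, hmem a⟩ : V.toLocalSubring.toSubring) := Subtype.ext (hga a)
      rw [e]
      exact hunit
    obtain ⟨⟨_, z, rfl⟩, hz⟩ := isUnit_iff_exists_inv.1 (hloc.1 r hr)
    have hz1 : g (algebraMap A _ a * z) = 1 := by rw [map_mul]; exact congrArg Subtype.val hz
    have hmax : algebraMap A (Localization.AtPrime p) a * z ∈ IsLocalRing.maximalIdeal (Localization.AtPrime p) :=
      Ideal.mul_mem_right _ _ ((IsLocalization.AtPrime.to_map_mem_maximal_iff _ p a).2 ha)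
    have h2 : IsUnit (g (1 - algebraMap A _ a * z)) :=
      (IsLocalRing.isUnit_one_sub_self_of_mem_nonunits _ hmax).map g
    rw [map_sub, map_one, hz1, sub_self] at h2
    exact not_isUnit_zero h2

/-- A field extension of the residue field at the kernel of a point receives a chart. -/
theorem exists_lift {A K : Type u} [CommRing A] [Field K] [Algebra A K] (hinj : Function.Injective (algebraMap A K))
    {ι : Type u} [Finite ι] (x : ι → K) (hx : ∃ j, x j ≠ 0) {F : Type u} [Field F] [Algebra A F] :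
    ∃ j, x j ≠ 0 ∧ ∃ (Ω : Type u) (_ : Field Ω) (i : F →+* Ω) (Φ : chart A x j →+* Ω),
      ∀ a, Φ (algebraMap A _ a) = i (algebraMap A F a) := by
  classical
  let p : Ideal A := RingHom.ker (algebraMap A F)
  haveI hp : p.IsPrime := RingHom.ker_isPrime _
  obtain ⟨V, hmem, hVp⟩ := exists_centred hinj p
  obtain ⟨l₀, hl₀⟩ := hx
  haveI : Nonempty ι := ⟨l₀⟩
  obtain ⟨j, hj⟩ := Finite.exists_max fun l => V.valuation (x l)
  have hj0 : x j ≠ 0 := fun h0 => by
    have := hj l₀
    rw [h0, map_zero, le_zero_iff, Valuation.zero_iff] at this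
    exact hl₀ this
  have hCV : ∀ z ∈ chart A x j, z ∈ V := by
    intro z hz
    induction hz using Algebra.adjoin_induction with
    | mem y hy =>
      obtain ⟨l, rfl⟩ := hy
      rw [← V.valuation_le_one_iff, map_div₀]
      exact div_le_one_of_le₀ (hj l) zero_le'
    | algebraMap a => exact hmem a
    | add a b _ _ ha hb => exact add_mem ha hb
    | mul a b _ _ ha hb => exact mul_mem ha hb
  let incl : chart A x j →+* V := Subring.inclusion (S := (chart A x j).toSubring) (T := V.toSubring) hCV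
  let P : Ideal (chart A x j) := (IsLocalRing.maximalIdeal V).comap incl
  haveI : P.IsPrime := Ideal.IsPrime.comap _
  have hover : P.comap (algebraMap A (chart A x j)) = p := Ideal.ext fun a => hVp a
  let κ := p.ResidueField
  letI : Algebra κ P.ResidueField :=
    (Ideal.ResidueField.map p P (algebraMap A (chart A x j)) hover.symm).toAlgebra
  letI : Algebra κ F := (Ideal.ResidueField.lift p (algebraMap A F) le_rfl fun a ha => by
    show IsUnit (algebraMap A F a)
    exact (isUnit_iff_ne_zero).2 fun h0 => ha h0).toAlgebra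
  haveI : Nontrivial (F ⊗[κ] P.ResidueField) :=
    (Algebra.TensorProduct.includeLeft_injective (S := κ) (algebraMap κ P.ResidueField).injective).nontrivial
  obtain ⟨m, hm⟩ := Ideal.exists_maximal (F ⊗[κ] P.ResidueField)
  letI := Ideal.Quotient.field m
  refine ⟨j, hj0, (F ⊗[κ] P.ResidueField) ⧸ m, inferInstance,
    (Ideal.Quotient.mk m).comp Algebra.TensorProduct.includeLeftRingHom,
    (Ideal.Quotient.mk m).comp ((Algebra.TensorProduct.includeRight.toRingHom).comp (algebraMap _ P.ResidueField)),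
    fun a => ?_⟩
  show Ideal.Quotient.mk m (1 ⊗ₜ algebraMap (chart A x j) P.ResidueField (algebraMap A (chart A x j) a)) =
    Ideal.Quotient.mk m (algebraMap A F a ⊗ₜ 1)
  congr 1
  have h1 : algebraMap (chart A x j) P.ResidueField (algebraMap A (chart A x j) a) =
      algebraMap κ P.ResidueField (algebraMap A κ a) :=
    (Ideal.ResidueField.map_algebraMap p P _ hover.symm a).symm
  have h2 : algebraMap A F a = algebraMap κ F (algebraMap A κ a) :=
    (Ideal.ResidueField.lift_algebraMap p _ _ _ a).symm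
  rw [h1, h2, Algebra.algebraMap_eq_smul_one (R := κ) (A := P.ResidueField),
    Algebra.algebraMap_eq_smul_one (R := κ) (A := F), TensorProduct.smul_tmul]

/-- A point with values in a valuation ring of a field extension. -/
theorem exists_chart_point {A D K : Type u} [CommRing A] [CommRing D] [IsDomain D] [IsDiscreteValuationRing D]
    [Field K] [Algebra A K] [Algebra A D] (hinj : Function.Injective (algebraMap A K))
    {ι : Type u} [Finite ι] (x : ι → K) (hx : ∃ j, x j ≠ 0) :
    ∃ (L : Type u) (_ : Field L) (W : ValuationSubring L) (α : D →+* W) (m : ι),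
      x m ≠ 0 ∧ Function.Injective α ∧ IsLocalHom α ∧
        ∃ ψ : chart A x m →+* W, ∀ a, ψ (algebraMap A _ a) = α (algebraMap A D a) := by
  classical
  let F := FractionRing D
  letI : Algebra A F := ((algebraMap D F).comp (algebraMap A D)).toAlgebra
  obtain ⟨j, hj0, Ω, _, i, Φ, hΦ⟩ := exists_lift hinj x hx (F := F)
  let y : ι → Ω := fun l => Φ ⟨x l / x j, div_mem_chart x j l⟩
  haveI := Fintype.ofFinite ι
  let sΩ : Finset Ω := Finset.univ.image y
  let β : D →+* Ω := i.comp (algebraMap D F)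
  let L : Subfield Ω := Subfield.closure (Set.range β ∪ (sΩ : Set Ω))
  have hβL : ∀ d, β d ∈ L := fun d => Subfield.subset_closure (Or.inl ⟨d, rfl⟩)
  have hyL : ∀ l, y l ∈ L := fun l => Subfield.subset_closure
    (Or.inr (Finset.mem_coe.2 (Finset.mem_image_of_mem y (Finset.mem_univ l))))
  let γ : D →+* L := β.codRestrict L hβL
  let s : Finset L := Finset.univ.image fun l => (⟨y l, hyL l⟩ : L)
  have hs : Subfield.closure (Set.range γ ∪ (s : Set L)) = ⊤ := by
    refine eq_top_iff.2 fun z _ => ?_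
    have hle : L ≤ (Subfield.closure (Set.range γ ∪ (s : Set L))).map L.subtype := by
      refine Subfield.closure_le.2 ?_
      rintro w (⟨d, rfl⟩ | hw)
      · exact ⟨γ d, Subfield.subset_closure (Or.inl ⟨d, rfl⟩), rfl⟩
      · obtain ⟨l, -, rfl⟩ := Finset.mem_image.1 (Finset.mem_coe.1 hw)
        exact ⟨⟨y l, hyL l⟩, Subfield.subset_closure (Or.inr (Finset.mem_coe.2
          (Finset.mem_image.2 ⟨l, Finset.mem_univ l, rfl⟩))), rfl⟩
    obtain ⟨w, hw, hwz⟩ := hle z.2
    exact Subtype.val_injective hwz ▸ hw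
  have hγ : Function.Injective γ := fun a b h => by
    have h' := i.injective (congrArg Subtype.val h)
    exact IsFractionRing.injective D F h'
  obtain ⟨ϖ, hϖ⟩ := IsDiscreteValuationRing.exists_irreducible D
  obtain ⟨W, -, hWmem, hWval⟩ := AlgSpLib.exists_dvr_of_hom' γ (IsLocalRing.maximalIdeal D)
    (by rw [(RingHom.injective_iff_ker_eq_bot γ).1 hγ]; exact bot_le)
    ⟨ϖ, by rw [hϖ.maximalIdeal_eq]; exact Ideal.mem_span_singleton_self ϖ,
      fun h0 => hϖ.ne_zero (hγ (h0.trans (map_zero γ).symm))⟩ s hs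
  let α : D →+* W := γ.codRestrict W.toSubring hWmem
  have hα : IsLocalHom α := by
    refine ⟨fun d hd => by_contra fun hn => ?_⟩
    have h1 := (hWval d).2 hn
    exact (W.mem_nonunits_iff.1 (W.mem_nonunits_iff.2 h1)).ne ((W.valuation_eq_one_iff _).1 hd)
  let yL : ι → L := fun l => ⟨y l, hyL l⟩
  have hyj : yL j = 1 := Subtype.ext (by
    show Φ ⟨x j / x j, _⟩ = 1
    rw [show (⟨x j / x j, div_mem_chart x j j⟩ : chart A x j) = 1 from Subtype.ext (div_self hj0), map_one])
  haveI : Nonempty ι := ⟨j⟩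
  obtain ⟨m, hm⟩ := Finite.exists_max fun l => W.valuation (yL l)
  have hym : yL m ≠ 0 := fun h0 => by
    have := hm j
    rw [hyj, h0, map_zero, map_one] at this
    exact not_lt.2 this zero_lt_one
  have hm0 : x m ≠ 0 := fun h0 => hym (Subtype.ext (by
    show Φ ⟨x m / x j, _⟩ = 0
    rw [show (⟨x m / x j, div_mem_chart x j m⟩ : chart A x j) = 0 from Subtype.ext (by simp [h0]), map_zero]))
  -- extend to the localization
  let u : chart A x j := ⟨x m / x j, div_mem_chart x j m⟩
  let Cu := Localization.Away u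
  have huK : ∀ c : Submonoid.powers u, IsUnit ((chart A x j).subtype c) := fun c => by
    obtain ⟨_, n, rfl⟩ := c
    exact isUnit_iff_ne_zero.2 (pow_ne_zero n (div_ne_zero hm0 hj0))
  let inK : Cu →+* K := IsLocalization.lift huK
  have hinK : Function.Injective inK :=
    (IsLocalization.lift_injective_iff huK).2 fun a b => ⟨fun h => by
      simpa [inK] using congrArg inK h, fun h => by rw [Subtype.val_injective h]⟩
  have huΩ : ∀ c : Submonoid.powers u, IsUnit (Φ c) := fun c => by
    obtain ⟨_, n, rfl⟩ := c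
    rw [map_pow]
    exact (isUnit_iff_ne_zero.2 fun h0 => hym (Subtype.ext h0)).pow n
  let Φ' : Cu →+* Ω := IsLocalization.lift huΩ
  let E : Cu ≃+* inK.range := RingEquiv.ofBijective inK.rangeRestrict
    ⟨fun a b h => hinK (congrArg Subtype.val h), inK.rangeRestrict_surjective⟩
  let χ : inK.range →+* Ω := Φ'.comp E.symm.toRingHom
  have hχ : ∀ (c : chart A x j) (h : (c : K) ∈ inK.range), χ ⟨c, h⟩ = Φ c := fun c h => by
    have e : E.symm ⟨c, h⟩ = algebraMap _ Cu c := E.injective (by
      rw [E.apply_symm_apply]; exact Subtype.ext (IsLocalization.lift_eq huK c).symm)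
    show Φ' (E.symm ⟨c, h⟩) = _
    rw [e, IsLocalization.lift_eq]
  have hin : ∀ c : chart A x j, (c : K) ∈ inK.range := fun c => ⟨algebraMap _ Cu c, IsLocalization.lift_eq huK c⟩
  let WΩ : Subring Ω := W.toSubring.map L.subtype
  let T : Subring K := (WΩ.comap χ).map inK.range.subtype
  have hχmem : ∀ {z : K} {w : Ω} (hz : z ∈ inK.range), χ ⟨z, hz⟩ = w → w ∈ WΩ → z ∈ T :=
    fun hz he hw => ⟨⟨_, hz⟩, (show χ ⟨_, hz⟩ ∈ WΩ by rw [he]; exact hw), rfl⟩
  have hgen : ∀ l, x l / x m ∈ T := fun l => by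
    have hmul : x l / x m * (x m / x j) = x l / x j := by field_simp
    have hzr : x l / x m ∈ inK.range := by
      refine ⟨IsLocalization.mk' Cu (⟨x l / x j, div_mem_chart x j l⟩ : chart A x j)
        (⟨u, 1, pow_one u⟩ : Submonoid.powers u), ?_⟩
      rw [IsLocalization.lift_mk'_spec]
      show x l / x j = x m / x j * (x l / x m)
      rw [mul_comm, hmul]
    have he : χ ⟨_, hzr⟩ * y m = y l := by
      rw [show y m = χ ⟨_, hin u⟩ from (hχ u (hin u)).symm, ← map_mul]
      refine Eq.trans ?_ (hχ ⟨x l / x j, div_mem_chart x j l⟩ (hin _))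
      exact congrArg χ (Subtype.ext hmul)
    refine hχmem hzr ((eq_div_iff (fun h0 => hym (Subtype.ext h0))).2 he) ⟨yL l / yL m, ?_, rfl⟩
    show yL l / yL m ∈ W
    rw [← W.valuation_le_one_iff, map_div₀]
    exact div_le_one_of_le₀ (hm l) zero_le'
  have hrange : ∀ z ∈ chart A x m, z ∈ T := by
    intro z hz
    induction hz using Algebra.adjoin_induction with
    | mem w hw => obtain ⟨l, rfl⟩ := hw; exact hgen l
    | algebraMap a =>
      exact hχmem (hin (algebraMap A _ a)) ((hχ _ _).trans (hΦ a))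
        ⟨γ (algebraMap A D a), hWmem _, rfl⟩
    | add a b _ _ ha hb => exact add_mem ha hb
    | mul a b _ _ ha hb => exact mul_mem ha hb
  have h1 : ∀ z ∈ chart A x m, z ∈ inK.range := fun z hz => by
    obtain ⟨r, -, rfl⟩ := hrange z hz
    exact r.2
  have h2 : ∀ z (hz : z ∈ chart A x m), χ ⟨z, h1 z hz⟩ ∈ WΩ := fun z hz => by
    obtain ⟨r, hr, e⟩ := hrange z hz
    have : r = ⟨z, h1 z hz⟩ := Subtype.ext e
    exact this ▸ hr
  let ψ₁ : chart A x m →+* inK.range :=
    Subring.inclusion (S := (chart A x m).toSubring) (T := inK.range) fun z hz => h1 z hz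
  let ψ₂ : chart A x m →+* WΩ := (χ.comp ψ₁).codRestrict WΩ fun z => h2 z.1 z.2
  let eW : W.toSubring ≃+* WΩ := W.toSubring.equivMapOfInjective L.subtype Subtype.val_injective
  let ψ : chart A x m →+* W := eW.symm.toRingHom.comp ψ₂
  refine ⟨L, inferInstance, W, α, m, hm0, fun a b h => hγ (congrArg Subtype.val h), hα, ψ, fun a => ?_⟩
  apply eW.injective
  refine (eW.apply_symm_apply _).trans (Subtype.ext ?_)
  exact (hχ (algebraMap A _ a) (hin _)).trans (hΦ a)

/-- Flatness at a Noetherian stage from flatness on the charts of the stage. -/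
theorem flat_stage {A₀ A K σ M₀ ι : Type u} [CommRing A₀] [CommRing A] [IsDomain A] [IsNoetherianRing A] [Field K]
    [Algebra A K] [Algebra A₀ A] [Algebra A₀ K] [IsScalarTower A₀ A K] [Finite σ] [AddCommGroup M₀] [Module A₀ M₀]
    [Module (MvPolynomial σ A₀) M₀] [IsScalarTower A₀ (MvPolynomial σ A₀) M₀]
    [Module.Finite (MvPolynomial σ A₀) M₀] [Finite ι] (hinj : Function.Injective (algebraMap A K)) (x : ι → K)
    (hx : ∃ j, x j ≠ 0) (h : ∀ m, x m ≠ 0 → Module.Flat (chart A x m) (chart A x m ⊗[A₀] M₀)) :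
    Module.Flat A (BC σ A₀ M₀ A) := by
  refine DvrFlatLib.flat_of_dvr (B := MvPolynomial σ A) fun D _ _ _ _ => ?_
  letI : Algebra A₀ D := ((algebraMap A D).comp (algebraMap A₀ A)).toAlgebra
  haveI : IsScalarTower A₀ A D := IsScalarTower.of_algebraMap_eq fun _ => rfl
  obtain ⟨L, _, W, α, m, hm0, hαinj, hαloc, ψ, hψ⟩ := exists_chart_point (D := D) hinj x hx
  letI : Algebra D W := α.toAlgebra
  letI : Algebra A₀ W := ((algebraMap D W).comp (algebraMap A₀ D)).toAlgebra
  haveI : IsScalarTower A₀ D W := IsScalarTower.of_algebraMap_eq fun _ => rfl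
  haveI := h m hm0
  have hψA : ∀ a, ψ (algebraMap A₀ (chart A x m) a) = algebraMap A₀ W a := fun a => by
    rw [IsScalarTower.algebraMap_apply A₀ A (chart A x m)]
    exact hψ _
  let ψ' : chart A x m →ₐ[A₀] W := { ψ with commutes' := hψA }
  haveI : Module.Flat W (W ⊗[A₀] M₀) := flat_tensor_of_algHom (S := ↥(chart A x m)) ψ'
  haveI : IsLocalHom (algebraMap D W) := hαloc
  haveI : FaithfulSMul D W := (faithfulSMul_iff_algebraMap_injective D W).2 hαinj
  haveI : Module.IsTorsionFree D W := inferInstance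
  haveI : Module.Flat D W := inferInstance
  haveI : Module.FaithfullyFlat D W := Module.FaithfullyFlat.of_flat_of_isLocalHom
  haveI : Module.Flat W (W ⊗[D] (D ⊗[A₀] M₀)) :=
    Module.Flat.of_linearEquiv (AlgebraTensorModule.cancelBaseChange A₀ D W W M₀)
  haveI : Module.Flat D (D ⊗[A₀] M₀) := Module.Flat.of_flat_tensorProduct D _ W
  exact Module.Flat.of_linearEquiv (bcEquiv A D)

/-- The chart hypothesis descends to a finite stage. -/
theorem exists_stage_chart {A₀ R K σ N M₀ ι : Type u} [CommRing A₀] [IsNoetherianRing A₀] [CommRing R] [Field K]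
    [Algebra A₀ R] [Algebra R K] [Algebra A₀ K] [IsScalarTower A₀ R K] [Finite σ] [AddCommGroup M₀] [Module A₀ M₀]
    [Module (MvPolynomial σ A₀) M₀] [IsScalarTower A₀ (MvPolynomial σ A₀) M₀]
    [Module.Finite (MvPolynomial σ A₀) M₀] [AddCommGroup N] [Module R N] (eN : R ⊗[A₀] M₀ ≃ₗ[R] N)
    (x : ι → K) (j : ι) [Module.Flat (chart R x j) (chart R x j ⊗[R] N)] :
    ∃ G : Finset R, ∀ H : Finset R, G ⊆ H →
      Module.Flat (chart (stg A₀ H) x j) (chart (stg A₀ H) x j ⊗[A₀] M₀) := by
  classical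
  let B := chart R x j
  haveI : Module.Flat B (B ⊗[A₀] M₀) := Module.Flat.of_linearEquiv
    ((AlgebraTensorModule.cancelBaseChange A₀ R B B M₀).symm ≪≫ₗ AlgebraTensorModule.congr (LinearEquiv.refl B B) eN)
  haveI : Module.Flat B (BC σ A₀ M₀ B) := Module.Flat.of_linearEquiv (isBaseChange_inc σ A₀ M₀ B).equiv.symm
  obtain ⟨F, hF⟩ := FlatLib.exists_flat_stage (σ := σ) (A := A₀) (M₀ := M₀) (R := B)
  choose G hG using fun z : B => exists_coeffs (A := A₀) x j z.2
  refine ⟨F.biUnion G, fun H hH => ?_⟩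
  haveI := hF
  haveI : Module.Flat (stg A₀ F) (stg A₀ F ⊗[A₀] M₀) :=
    Module.Flat.of_linearEquiv (isBaseChange_inc σ A₀ M₀ (stg A₀ F)).equiv
  let ν : stg A₀ F →ₐ[A₀] K := (B.val.restrictScalars A₀).comp (stg A₀ F).val
  have hν : ∀ z, ν z ∈ (chart (stg A₀ H) x j).restrictScalars A₀ := by
    intro z
    obtain ⟨z, hz⟩ := z
    have : z ∈ ((chart (stg A₀ H) x j).restrictScalars A₀).comap (B.val.restrictScalars A₀) := by
      refine Algebra.adjoin_le (fun w hw => ?_) hz
      exact hG w H ((Finset.subset_biUnion_of_mem G (Finset.mem_coe.1 hw)).trans hH)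
    exact this
  exact flat_tensor_of_algHom (ν.codRestrict _ hν)

/-- **Descent of flatness along charts.** A finitely presented module over a polynomial ring over a domain
is flat as soon as it becomes flat on the charts of a blow-up. -/
theorem flat_of_charts {R K σ N ι : Type u} [CommRing R] [IsDomain R] [Field K] [Algebra R K] [IsFractionRing R K]
    [Finite σ] [AddCommGroup N] [Module (MvPolynomial σ R) N] [Module R N] [IsScalarTower R (MvPolynomial σ R) N]
    [Module.FinitePresentation (MvPolynomial σ R) N] [Finite ι] (x : ι → K) (hx : ∃ j, x j ≠ 0)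
    (h : ∀ j, x j ≠ 0 → Module.Flat (chart R x j) (chart R x j ⊗[R] N)) : Module.Flat R N := by
  classical
  haveI := Fintype.ofFinite ι
  obtain ⟨A₀, M₀, _, _, _, _, hA₀, hfin, ⟨e⟩, -⟩ :=
    FlatLib.exists_model (σ := σ) (R := R) (M := N) ∅ (by simp)
  haveI := hfin
  haveI : Algebra.FiniteType ℤ A₀ := (Subalgebra.fg_iff_finiteType A₀).1 hA₀
  haveI : IsNoetherianRing A₀ := Algebra.FiniteType.isNoetherianRing ℤ A₀
  have hstage : ∀ j, x j ≠ 0 → ∃ G : Finset R, ∀ H : Finset R, G ⊆ H →
      Module.Flat (chart (stg A₀ H) x j) (chart (stg A₀ H) x j ⊗[A₀] M₀) := fun j hj =>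
    haveI := h j hj
    exists_stage_chart (σ := σ) ((isBaseChange_inc σ A₀ M₀ R).equiv ≪≫ₗ e.restrictScalars R) x j
  choose G hG using hstage
  obtain ⟨H, hH⟩ : ∃ H : Finset R, ∀ j hj, G j hj ⊆ H :=
    ⟨Finset.univ.biUnion fun j => if hj : x j ≠ 0 then G j hj else ∅, fun j hj r hr =>
      Finset.mem_biUnion.2 ⟨j, Finset.mem_univ j, by rw [dif_pos hj]; exact hr⟩⟩
  let A := stg A₀ H
  haveI : Algebra.FiniteType A₀ A := (Subalgebra.fg_iff_finiteType A).1 (Subalgebra.fg_adjoin_finset H)
  haveI : IsNoetherianRing A := Algebra.FiniteType.isNoetherianRing A₀ A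
  haveI : Algebra.FiniteType A (MvPolynomial σ A) := inferInstance
  haveI : Module.Finite (MvPolynomial σ A) (BC σ A₀ M₀ A) := inferInstance
  have hinj : Function.Injective (algebraMap A K) :=
    (IsFractionRing.injective R K).comp Subtype.val_injective
  have hflat : Module.Flat A (BC σ A₀ M₀ A) :=
    flat_stage hinj x hx fun m hm => hG m hm H (hH m hm)
  let eN : R ⊗[A] BC σ A₀ M₀ A ≃ₗ[R] N :=
    bcEquiv A R ≪≫ₗ
      (isBaseChange_inc σ A₀ M₀ R).equiv ≪≫ₗ e.restrictScalars R
  haveI := hflat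
  exact Module.Flat.of_linearEquiv eN.symm

end FlatFPDomLib
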