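import Mathlib
import Groth.Agent.FlatFPDomLib.Descent
import Groth.Agent.RGFlatLib.Affine
import Groth.Agent.RGFlatLib.ModAlg
import Groth.Agent.RzLib.UnivOpenRing
import Groth.Agent.FlatLib.GenericFP

/-!
# Flat algebras and modules of finite type over a domain are finitely presented
-/

set_option autoImplicit false
set_option maxHeartbeats 1000000

noncomputable section

universe u

open TensorProduct MvPolynomial RGFlatLib

namespace FlatFPDomLib

/-- A finitely generated extended ideal is extended from finitely many members. -/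
theorem exists_finset_map_eq {P Q : Type u} [CommRing P] [CommRing Q] (f : P →+* Q) (I : Ideal P)
    (h : (I.map f).FG) : ∃ T : Finset P, Ideal.span (T : Set P) ≤ I ∧ (Ideal.span (T : Set P)).map f = I.map f := by
  classical
  obtain ⟨s', hs', e⟩ := (Submodule.fg_span_iff_fg_span_finset_subset _).1 h
  choose! g hg hgf using hs'
  refine ⟨s'.image g, Ideal.span_le.2 fun y hy => ?_, ?_⟩
  · obtain ⟨z, hz, rfl⟩ := Finset.mem_image.1 hy
    exact hg hz
  · refine le_antisymm (Ideal.map_mono (Ideal.span_le.2 fun y hy => ?_)) ?_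
    · obtain ⟨z, hz, rfl⟩ := Finset.mem_image.1 hy
      exact hg hz
    · refine (le_of_eq e).trans ?_
      rw [Submodule.span_le]
      intro z hz
      exact hgf hz ▸ Ideal.mem_map_of_mem f (Ideal.subset_span (Finset.mem_image_of_mem g hz))

variable {R : Type u} [CommRing R] {σ : Type u} [Finite σ]

/-- The quotient of a polynomial ring after a change of rings. -/
theorem exists_quot_map (I₀ : Ideal (MvPolynomial σ R)) (B : Type u) [CommRing B] [Algebra R B] :
    ∃ θ : MvPolynomial σ B →ₐ[B] B ⊗[R] (MvPolynomial σ R ⧸ I₀), Function.Surjective θ ∧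
      RingHom.ker θ = I₀.map (MvPolynomial.map (algebraMap R B)) := by
  obtain ⟨θ, hθ, hθk⟩ := RzLib.UnivOpen.quot_bc (Ideal.Quotient.mkₐ R I₀) (Ideal.Quotient.mkₐ_surjective R I₀)
    (MvPolynomial.algebraTensorAlgEquiv (σ := σ) R B)
    (MvPolynomial.map (algebraMap R B)) fun x => by rw [MvPolynomial.algebraTensorAlgEquiv_tmul, one_smul]
  have e : RingHom.ker (Ideal.Quotient.mkₐ R I₀) = I₀ := Ideal.Quotient.mkₐ_ker R I₀
  exact ⟨θ, hθ, hθk.trans (by rw [e])⟩

theorem flat_bc_of_map_eq {I J : Ideal (MvPolynomial σ R)} (B : Type u) [CommRing B] [Algebra R B]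
    (h : J.map (MvPolynomial.map (algebraMap R B)) = I.map (MvPolynomial.map (algebraMap R B)))
    [Module.Flat B (B ⊗[R] (MvPolynomial σ R ⧸ I))] : Module.Flat B (B ⊗[R] (MvPolynomial σ R ⧸ J)) := by
  obtain ⟨θ, hθ, hθk⟩ := exists_quot_map I B
  obtain ⟨η, hη, hηk⟩ := exists_quot_map J B
  exact Module.Flat.of_linearEquiv ((Ideal.quotientKerAlgEquivOfSurjective hη).symm.trans
    ((Ideal.quotientEquivAlgOfEq B (hηk.trans (h.trans hθk.symm))).trans
      (Ideal.quotientKerAlgEquivOfSurjective hθ))).toLinearEquiv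

theorem fg_map_of_good (I₀ : Ideal (MvPolynomial σ R)) [Module.Flat R (MvPolynomial σ R ⧸ I₀)] {B : Type u}
    [CommRing B] [Algebra R B] {g : B} (hg : g ∈ nonZeroDivisors B) (h : Good I₀ B g) :
    (I₀.map (MvPolynomial.map (algebraMap R B))).FG := by
  obtain ⟨θ, -, hθk⟩ := exists_quot_map I₀ B
  have e : saturation (I₀.map (MvPolynomial.map (algebraMap R B))) (C g) =
      I₀.map (MvPolynomial.map (algebraMap R B)) := by
    ext w
    rw [mem_saturation]
    refine ⟨fun ⟨n, hn⟩ => ?_, fun hw => ⟨0, by rwa [pow_zero, one_mul]⟩⟩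
    rw [← hθk, RingHom.mem_ker] at hn ⊢
    rw [← map_pow (C : B →+* MvPolynomial σ B), map_mul, ← MvPolynomial.algebraMap_eq, AlgHom.commutes,
      ← Algebra.smul_def] at hn
    exact (Module.Flat.isSMulRegular_of_nonZeroDivisors (pow_mem hg n)).right_eq_zero_of_smul hn
  exact e ▸ h.1

theorem fg_of_local {B : Type u} [CommRing B] (I : Ideal (MvPolynomial σ B))
    (h : ∀ q : PrimeSpectrum B, ∃ a, a ∉ q.asIdeal ∧
      (I.map (MvPolynomial.map (algebraMap B (Localization.Away a)))).FG) : I.FG := by
  choose a ha hfg using h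
  have htop : Ideal.span (Set.range a) = ⊤ := by
    by_contra hne
    obtain ⟨m, hm, hle⟩ := Ideal.exists_le_maximal _ hne
    exact ha ⟨m, hm.isPrime⟩ (hle (Ideal.subset_span ⟨_, rfl⟩))
  refine Ideal.fg_of_localizationSpan ((C : B →+* MvPolynomial σ B) '' Set.range a) ?_ ?_
  · rw [← Ideal.map_span, htop, Ideal.map_top]
  rintro ⟨_, _, ⟨q, rfl⟩, rfl⟩
  letI : Algebra (MvPolynomial σ B) (MvPolynomial σ (Localization.Away (a q))) := MvPolynomial.algebraMvPolynomial
  haveI : IsLocalization.Away (C (a q) : MvPolynomial σ B) (MvPolynomial σ (Localization.Away (a q))) := by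
    have h1 : (Submonoid.powers (a q)).map (C : B →+* MvPolynomial σ B) = Submonoid.powers (C (a q)) :=
      Submonoid.map_powers _ _
    show IsLocalization (Submonoid.powers (C (a q) : MvPolynomial σ B)) _
    rw [← h1]
    exact MvPolynomial.isLocalization (Submonoid.powers (a q)) (Localization.Away (a q))
  let e := IsLocalization.algEquiv (Submonoid.powers (C (a q) : MvPolynomial σ B)) (MvPolynomial σ (Localization.Away (a q)))
    (Localization.Away (C (a q) : MvPolynomial σ B))
  have e1 : I.map (algebraMap (MvPolynomial σ B) (Localization.Away (C (a q) : MvPolynomial σ B))) =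
      (I.map (MvPolynomial.map (algebraMap B (Localization.Away (a q))))).map e.toRingEquiv.toRingHom := by
    rw [Ideal.map_map]
    congr 1
    exact RingHom.ext fun z => (e.commutes z).symm
  exact e1 ▸ (hfg q).map _

theorem fg_flat_map_of_fp (I₀ : Ideal (MvPolynomial σ R)) (B : Type u) [CommRing B] [Algebra R B]
    [Module.Flat B (B ⊗[R] (MvPolynomial σ R ⧸ I₀))]
    [Algebra.FinitePresentation B (B ⊗[R] (MvPolynomial σ R ⧸ I₀))] :
    (I₀.map (MvPolynomial.map (algebraMap R B))).FG ∧
      Module.Flat B (MvPolynomial σ B ⧸ I₀.map (MvPolynomial.map (algebraMap R B))) := by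
  obtain ⟨θ, hθ, hθk⟩ := exists_quot_map I₀ B
  refine ⟨?_, Module.Flat.of_linearEquiv ((Ideal.quotientEquivAlgOfEq B hθk.symm).trans
    (Ideal.quotientKerAlgEquivOfSurjective hθ)).toLinearEquiv⟩
  rw [← hθk]
  exact (Algebra.FinitePresentation.ker_fG_of_surjective (R := B) (A := MvPolynomial σ B)
    (B := B ⊗[R] (MvPolynomial σ R ⧸ I₀)) θ hθ :)

theorem fg_map_chart [IsDomain R] (I₀ : Ideal (MvPolynomial σ R)) [Module.Flat R (MvPolynomial σ R ⧸ I₀)]
    {K : Type u} [Field K] [Algebra R K] (I : Ideal R) (G : Finset R) (hG : Ideal.span (G : Set R) = I)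
    (hgood : ∀ (B : Type u) [CommRing B] [Algebra R B] (g : B), g ∈ nonZeroDivisors B →
      I.map (algebraMap R B) = Ideal.span {g} → ∀ q : PrimeSpectrum B, ∃ h : B, h ∉ q.asIdeal ∧
        ∀ (B' : Type u) [CommRing B'] [Algebra B B'] [Algebra R B'] [IsScalarTower R B B']
          [IsLocalization.Away h B'], Good I₀ B' (algebraMap B B' g))
    (x : G → K) (hxdef : x = fun l => algebraMap R K l.1) (j : G) (hj : x j ≠ 0) :
    (I₀.map (MvPolynomial.map (algebraMap R (chart R x j)))).FG := by
  subst hxdef
  let x : G → K := fun l => algebraMap R K l.1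
  let B := chart R x j
  let g : B := algebraMap R B j.1
  have hg : g ∈ nonZeroDivisors B := mem_nonZeroDivisors_of_ne_zero fun h0 => hj (congrArg Subtype.val h0)
  have hIB : I.map (algebraMap R B) = Ideal.span {g} := by
    rw [← hG, Ideal.map_span]
    refine le_antisymm (Ideal.span_le.2 ?_)
      ((Ideal.span_singleton_le_iff_mem _).2 (Ideal.subset_span ⟨j.1, j.2, rfl⟩))
    rintro _ ⟨l, hl, rfl⟩
    refine Ideal.mem_span_singleton'.2 ⟨⟨x ⟨l, hl⟩ / x j, div_mem_chart x j _⟩, Subtype.ext ?_⟩
    exact div_mul_cancel₀ _ hj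
  refine fg_of_local _ fun q => ?_
  obtain ⟨a, ha, hGood⟩ := hgood B g hg hIB q
  refine ⟨a, ha, ?_⟩
  have h1 := fg_map_of_good I₀
    (IsLocalization.nonZeroDivisors_le_comap (Submonoid.powers a) (Localization.Away a) hg)
    (hGood (Localization.Away a))
  have e2 : (MvPolynomial.map (algebraMap B (Localization.Away a))).comp (MvPolynomial.map (algebraMap R B)) =
      (MvPolynomial.map (algebraMap R (Localization.Away a)) : MvPolynomial σ R →+* _) := by
    ext <;> simp [← IsScalarTower.algebraMap_apply]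
  rw [Ideal.map_map, e2]
  exact h1

/-- An ideal with flat finitely generated quotients over a basic open and over the charts of a blow-up
is finitely generated with flat quotient. -/
theorem fg_flat_of_charts [IsDomain R] {K : Type u} [Field K] [Algebra R K] [IsFractionRing R K] {ι : Type u}
    [Fintype ι] (I₀ : Ideal (MvPolynomial σ R)) {f : R} (hf : f ≠ 0)
    (hfgf : (I₀.map (MvPolynomial.map (algebraMap R (Localization.Away f)))).FG)
    (x : ι → K) (hx : ∃ l, x l ≠ 0)
    (hchart : ∀ j, x j ≠ 0 → (I₀.map (MvPolynomial.map (algebraMap R (chart R x j)))).FG)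
    (hflat : ∀ j, x j ≠ 0 → Module.Flat (chart R x j) (chart R x j ⊗[R] (MvPolynomial σ R ⧸ I₀))) :
    I₀.FG ∧ Module.Flat R (MvPolynomial σ R ⧸ I₀) := by
  classical
  let Rf := Localization.Away f
  obtain ⟨T₀, hT₀, hT₀'⟩ := exists_finset_map_eq (MvPolynomial.map (algebraMap R Rf)) I₀ hfgf
  have hT : ∀ j, ∃ T : Finset (MvPolynomial σ R), Ideal.span (T : Set _) ≤ I₀ ∧ (x j ≠ 0 →
      (Ideal.span (T : Set _)).map (MvPolynomial.map (algebraMap R (chart R x j))) =
        I₀.map (MvPolynomial.map (algebraMap R (chart R x j)))) := fun j => by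
    by_cases hj : x j ≠ 0
    · obtain ⟨T, h1, h2⟩ := exists_finset_map_eq (Q := MvPolynomial σ (chart R x j)) (MvPolynomial.map (algebraMap R (chart R x j))) I₀ (hchart j hj)
      exact ⟨T, h1, fun _ => h2⟩
    · exact ⟨∅, by simp, fun h => absurd h hj⟩
  choose T hTle hTeq using hT
  let TT : Finset (MvPolynomial σ R) := T₀ ∪ Finset.univ.biUnion T
  let J : Ideal (MvPolynomial σ R) := Ideal.span (TT : Set _)
  have hJ : J ≤ I₀ := Ideal.span_le.2 fun z hz => by
    rcases Finset.mem_union.1 (Finset.mem_coe.1 hz) with h | h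
    · exact hT₀ (Ideal.subset_span h)
    · obtain ⟨j, -, h⟩ := Finset.mem_biUnion.1 h
      exact hTle j (Ideal.subset_span h)
  haveI : Module.FinitePresentation (MvPolynomial σ R) (MvPolynomial σ R ⧸ J) :=
    Module.finitePresentation_of_surjective (Submodule.mkQ J) (Submodule.mkQ_surjective J)
      (by rw [Submodule.ker_mkQ]; exact ⟨TT, rfl⟩)
  haveI : Module.Flat R (MvPolynomial σ R ⧸ J) := flat_of_charts (σ := σ) x hx fun j hj => by
    haveI := hflat j hj
    refine flat_bc_of_map_eq (I := I₀) (chart R x j) (le_antisymm (Ideal.map_mono hJ) ?_)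
    rw [← hTeq j hj]
    exact Ideal.map_mono (Ideal.span_mono (Finset.coe_subset.2
      ((Finset.subset_biUnion_of_mem T (Finset.mem_univ j)).trans Finset.subset_union_right)))
  suffices heq : J = I₀ by
    subst heq
    exact ⟨⟨TT, rfl⟩, inferInstance⟩
  refine le_antisymm hJ fun z hz => ?_
  letI : Algebra (MvPolynomial σ R) (MvPolynomial σ Rf) := MvPolynomial.algebraMvPolynomial
  have hz' : algebraMap (MvPolynomial σ R) (MvPolynomial σ Rf) z ∈ J.map (algebraMap _ (MvPolynomial σ Rf)) := by
    have h1 : Ideal.map (MvPolynomial.map (algebraMap R Rf)) (Ideal.span (T₀ : Set (MvPolynomial σ R))) ≤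
        J.map (MvPolynomial.map (algebraMap R Rf)) :=
      Ideal.map_mono (Ideal.span_mono (Finset.coe_subset.2 Finset.subset_union_left))
    exact h1 (hT₀' ▸ Ideal.mem_map_of_mem _ hz)
  haveI := MvPolynomial.isLocalization (σ := σ) (Submonoid.powers f) Rf
  obtain ⟨_, ⟨_, ⟨n, rfl⟩, rfl⟩, hn⟩ :=
    (IsLocalization.algebraMap_mem_map_algebraMap_iff ((Submonoid.powers f).map (C (σ := σ))) _ _ _).1 hz'
  rw [← Ideal.Quotient.eq_zero_iff_mem]
  refine (Module.Flat.isSMulRegular_of_nonZeroDivisors
    (pow_mem (mem_nonZeroDivisors_of_ne_zero hf) n)).right_eq_zero_of_smul ?_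
  show Ideal.Quotient.mk J (f ^ n • z) = 0
  rw [Algebra.smul_def, MvPolynomial.algebraMap_eq]
  exact Ideal.Quotient.eq_zero_iff_mem.2 hn

/-- **Finite presentation of flat quotients of polynomial rings over a domain.** -/
theorem fg_of_flat_quotient [IsDomain R] (I₀ : Ideal (MvPolynomial σ R))
    [Module.Flat R (MvPolynomial σ R ⧸ I₀)] : I₀.FG := by
  classical
  obtain ⟨f, hf, -, -, hfp, -⟩ :=
    FlatLib.generic_freeness_fp (R := R) (S := MvPolynomial σ R ⧸ I₀) (M := MvPolynomial σ R ⧸ I₀)
  let Rf := Localization.Away f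
  haveI := hfp
  obtain ⟨hfgf, hflatf⟩ := fg_flat_map_of_fp I₀ Rf
  obtain ⟨I, hI, -, hrad, hgood⟩ := exists_flattening_center ({f} : Finset R) (κ := PUnit.{u + 1})
    (fun _ => σ) (fun _ => I₀)
    (fun _ j hj => by rw [Finset.mem_singleton.1 hj]; exact hflatf)
    (fun _ j hj => by rw [Finset.mem_singleton.1 hj]; exact hfgf)
  obtain ⟨G, hG⟩ := hI
  let K := FractionRing R
  let x : G → K := fun l => algebraMap R K l.1
  have hx : ∃ l, x l ≠ 0 := by
    by_contra hcon
    simp only [not_exists, not_not] at hcon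
    have hbot : I = ⊥ := by
      rw [← hG]
      exact Ideal.span_eq_bot.2 fun z hz => IsFractionRing.injective R K ((hcon ⟨z, hz⟩).trans (map_zero _).symm)
    obtain ⟨n, hn⟩ := hrad f (Finset.mem_singleton_self f)
    rw [hbot, Ideal.mem_bot] at hn
    exact hf (eq_zero_of_pow_eq_zero hn)
  have hchart : ∀ j, x j ≠ 0 → (I₀.map (MvPolynomial.map (algebraMap R (chart R x j)))).FG :=
    fun j hj => fg_map_chart I₀ I G hG (fun B _ _ g hg hIB q => by
      obtain ⟨h, hh, hB⟩ := hgood B g hg hIB q
      exact ⟨h, hh, fun B' _ _ _ _ _ => hB B' PUnit.unit⟩) x rfl j hj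
  exact (fg_flat_of_charts I₀ hf hfgf x hx hchart fun j _ => inferInstance).1

/-- A flat algebra of finite type over a domain is finitely presented. -/
theorem finitePresentation_algebra {R S : Type u} [CommRing R] [IsDomain R] [CommRing S] [Algebra R S]
    [Algebra.FiniteType R S] [Module.Flat R S] : Algebra.FinitePresentation R S := by
  obtain ⟨ι, hfin, π, hπ⟩ := Algebra.FiniteType.iff_quotient_mvPolynomial'.1 ‹Algebra.FiniteType R S›
  let e := Ideal.quotientKerAlgEquivOfSurjective hπ
  haveI : Module.Flat R (MvPolynomial ι R ⧸ RingHom.ker π) := Module.Flat.of_linearEquiv e.toLinearEquiv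
  haveI : Algebra.FinitePresentation R (MvPolynomial ι R ⧸ RingHom.ker π) :=
    Algebra.FinitePresentation.quotient (fg_of_flat_quotient (RingHom.ker π))
  exact Algebra.FinitePresentation.equiv e

/-- A finite module over an algebra of finite type over a domain, flat over the domain, is finitely
presented. -/
theorem finitePresentation_module {R S M : Type u} [CommRing R] [IsDomain R] [CommRing S] [Algebra R S]
    [Algebra.FiniteType R S] [AddCommGroup M] [Module S M] [Module R M] [IsScalarTower R S M]
    [Module.Finite S M] [Module.Flat R M] : Module.FinitePresentation S M := by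
  obtain ⟨ι, hfin, π, hπ⟩ := Algebra.FiniteType.iff_quotient_mvPolynomial'.1 ‹Algebra.FiniteType R S›
  let P := MvPolynomial ι R
  letI : Algebra P S := π.toRingHom.toAlgebra
  haveI : IsScalarTower R P S := IsScalarTower.of_algebraMap_eq fun r => (π.commutes r).symm
  letI : Module P M := Module.compHom M π.toRingHom
  haveI : IsScalarTower P S M := IsScalarTower.of_algebraMap_smul fun _ _ => rfl
  haveI : IsScalarTower R P M := IsScalarTower.of_algebraMap_smul fun r m => by
    show π (algebraMap R P r) • m = r • m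
    rw [π.commutes, algebraMap_smul]
  haveI : Module.Finite P S := Module.Finite.of_surjective (Algebra.linearMap P S) hπ
  haveI : Module.Finite P M := Module.Finite.trans S M
  letI : Module Pᵐᵒᵖ M := Module.compHom M (RingEquiv.toOpposite P).symm.toRingHom
  haveI : IsCentralScalar P M := ⟨fun _ _ => rfl⟩
  haveI : IsScalarTower R Pᵐᵒᵖ M := ⟨fun r p m => by
    show (r • p).unop • m = r • p.unop • m
    rw [MulOpposite.unop_smul, smul_assoc]⟩
  let Q := TrivSqZeroExt P M
  haveI : IsScalarTower R P Q := IsScalarTower.of_algebraMap_eq fun a => rfl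
  haveI := finite_sqZero P M
  haveI := finiteType_sqZero (A := R) P M
  let eQ : Q ≃ₗ[P] P × M := { AddEquiv.refl _ with map_smul' := fun p q => rfl }
  haveI : Module.Flat R (P × M) := KFlatLib.flat_prod
  haveI : Module.Flat R Q := Module.Flat.of_linearEquiv (eQ.restrictScalars R)
  haveI : Algebra.FinitePresentation R Q := finitePresentation_algebra
  haveI : Algebra.FinitePresentation P Q :=
    Algebra.FinitePresentation.of_restrict_scalars_finitePresentation R P Q
  haveI : Module.FinitePresentation P Q := Module.FinitePresentation.of_finite_of_finitePresentation P Q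
  haveI : Module.FinitePresentation P (P × M) := Module.FinitePresentation.of_equiv eQ
  haveI : Module.FinitePresentation P M :=
    Module.finitePresentation_of_surjective (LinearMap.snd P P M) Prod.snd_surjective (by
      rw [LinearMap.ker_snd, LinearMap.range_eq_map]
      exact (Module.Finite.fg_top).map _)
  exact FinitePresentation.of_isBaseChange (A := S) (LinearMap.id : M →ₗ[P] M)
    (FlatLib.isBaseChange_id_of_surjective hπ)

end FlatFPDomLib
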