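import Mathlib
import Groth.Agent.FlatFPDomLib.Main
import Groth.Agent.RGFlatLib.Piece
import Groth.Agent.FlatLib.OpenFP

/-!
# Openness of the flat locus over a domain
-/

set_option autoImplicit false
set_option maxHeartbeats 1000000

noncomputable section

universe u

open TensorProduct RGFlatLib

namespace FlatFPDomLib

/-- Inverting an element that kills an ideal. -/
theorem fp_flat_away_of_killed {B E : Type u} [CommRing B] [CommRing E] [Algebra B E] (K : Ideal E) (e : E)
    (hK : ∀ a ∈ K, e * a = 0) [Module.Flat B (E ⧸ K)] [Algebra.FinitePresentation B (E ⧸ K)] :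
    Algebra.FinitePresentation B (Localization.Away e) ∧ Module.Flat B (Localization.Away e) := by
  let C := Localization.Away e
  let φ : E ⧸ K →+* C := Ideal.Quotient.lift K (algebraMap E C) fun a ha =>
    (IsLocalization.map_eq_zero_iff (Submonoid.powers e) C a).2 ⟨⟨e, Submonoid.mem_powers e⟩, hK a ha⟩
  letI : Algebra (E ⧸ K) C := φ.toAlgebra
  haveI : IsScalarTower E (E ⧸ K) C := IsScalarTower.of_algebraMap_eq fun _ => rfl
  haveI : IsScalarTower B (E ⧸ K) C := IsScalarTower.of_algebraMap_eq fun b => by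
    show algebraMap B C b = φ (Ideal.Quotient.mk K (algebraMap B E b))
    rw [Ideal.Quotient.lift_mk, ← IsScalarTower.algebraMap_apply]
  have hloc : IsLocalization (Submonoid.powers (Ideal.Quotient.mk K e)) C := by
    refine (isLocalization_iff (Submonoid.powers (Ideal.Quotient.mk K e)) C).2 ⟨?_, ?_, ?_⟩
    · rintro ⟨_, n, rfl⟩
      show IsUnit (φ (Ideal.Quotient.mk K e ^ n))
      rw [← map_pow, Ideal.Quotient.lift_mk]
      exact IsLocalization.map_units C (⟨_, n, rfl⟩ : Submonoid.powers e)
    · intro z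
      obtain ⟨⟨a, _, n, rfl⟩, h⟩ := IsLocalization.surj (Submonoid.powers e) z
      refine ⟨⟨Ideal.Quotient.mk K a, ⟨_, n, rfl⟩⟩, ?_⟩
      show z * φ (Ideal.Quotient.mk K e ^ n) = φ (Ideal.Quotient.mk K a)
      rw [← map_pow, Ideal.Quotient.lift_mk, Ideal.Quotient.lift_mk]
      exact h
    · intro a b h
      obtain ⟨a, rfl⟩ := Ideal.Quotient.mk_surjective a
      obtain ⟨b, rfl⟩ := Ideal.Quotient.mk_surjective b
      obtain ⟨⟨_, n, rfl⟩, hc⟩ := (IsLocalization.eq_iff_exists (Submonoid.powers e) C).1 h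
      refine ⟨⟨_, n, rfl⟩, ?_⟩
      show Ideal.Quotient.mk K e ^ n * _ = Ideal.Quotient.mk K e ^ n * _
      rw [← map_pow, ← map_mul, ← map_mul]
      exact congrArg _ hc
  haveI : IsLocalization.Away (Ideal.Quotient.mk K e) C := hloc
  haveI : Algebra.FinitePresentation (E ⧸ K) C := IsLocalization.Away.finitePresentation (Ideal.Quotient.mk K e)
  haveI : Module.Flat (E ⧸ K) C := IsLocalization.flat C (Submonoid.powers (Ideal.Quotient.mk K e))
  exact ⟨Algebra.FinitePresentation.trans B (E ⧸ K) C, Module.Flat.trans B (E ⧸ K) C⟩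

section Kill

variable {R P Q : Type u} [CommRing R] [CommRing P] [CommRing Q] [Algebra R P] [Algebra R Q] [Algebra P Q]
  [IsScalarTower R P Q] (T : Submonoid P) [Module.Flat R (LocalizedModule T Q)]

/-- Torsion in a base change is killed near the flat locus. -/
theorem exists_kill {B : Type u} [CommRing B] [Algebra R B] {h : B} (hh : h ∈ nonZeroDivisors B) {a : B ⊗[R] Q}
    (ha : algebraMap B (B ⊗[R] Q) h * a = 0) : ∃ t ∈ T, (1 : B) ⊗ₜ[R] algebraMap P Q t * a = 0 := by
  let m : B →ₗ[R] B := LinearMap.mulLeft R h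
  have hm : Function.Injective m := fun x y e => (mul_cancel_left_mem_nonZeroDivisors hh).1 e
  have hinj : Function.Injective (m.lTensor (LocalizedModule T Q)) :=
    Module.Flat.lTensor_preserves_injective_linearMap m hm
  have key : ∀ z : B ⊗[R] Q, m.lTensor Q (TensorProduct.comm R B Q z) =
      TensorProduct.comm R B Q (algebraMap B (B ⊗[R] Q) h * z) := fun z => by
    induction z using TensorProduct.induction_on with
    | zero => simp
    | add x y hx hy => rw [map_add, map_add, hx, hy, mul_add, map_add]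
    | tmul b q => simp [m, Algebra.TensorProduct.algebraMap_apply, Algebra.TensorProduct.tmul_mul_tmul]
  have key2 : ∀ (t : P) (z : B ⊗[R] Q), t • TensorProduct.comm R B Q z =
      TensorProduct.comm R B Q ((1 : B) ⊗ₜ[R] algebraMap P Q t * z) := fun t z => by
    induction z using TensorProduct.induction_on with
    | zero => simp
    | add x y hx hy => rw [map_add, smul_add, hx, hy, mul_add, map_add]
    | tmul b q =>
      rw [TensorProduct.comm_tmul, TensorProduct.smul_tmul', Algebra.TensorProduct.tmul_mul_tmul,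
        TensorProduct.comm_tmul, one_mul, Algebra.smul_def]
  obtain ⟨t, ht, htx⟩ := (FlatLib.injective_lTensor_localized_iff T (LocalizedModule.mkLinearMap T Q) m).1 hinj
    (TensorProduct.comm R B Q a) (by rw [key, ha, map_zero])
  rw [key2] at htx
  exact ⟨t, ht, (TensorProduct.comm R B Q).injective (htx.trans (map_zero _).symm)⟩

theorem exists_kill_finset {B : Type u} [CommRing B] [Algebra R B] (s : Finset (B ⊗[R] Q))
    (hs : ∀ a ∈ s, ∃ h ∈ nonZeroDivisors B, algebraMap B (B ⊗[R] Q) h * a = 0) :
    ∃ t ∈ T, ∀ a ∈ Ideal.span (s : Set (B ⊗[R] Q)), (1 : B) ⊗ₜ[R] algebraMap P Q t * a = 0 := by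
  classical
  have : ∀ a ∈ s, ∃ t ∈ T, (1 : B) ⊗ₜ[R] algebraMap P Q t * a = 0 := fun a ha => by
    obtain ⟨h, hh, hha⟩ := hs a ha
    exact exists_kill T hh hha
  choose! t ht hta using this
  refine ⟨∏ a ∈ s, t a, prod_mem ht, fun a ha => ?_⟩
  induction ha using Submodule.span_induction with
  | mem a ha =>
    rw [← Finset.prod_erase_mul s t (Finset.mem_coe.1 ha), map_mul,
      show (1 : B) ⊗ₜ[R] (algebraMap P Q (∏ x ∈ s.erase a, t x) * algebraMap P Q (t a)) =
        ((1 : B) ⊗ₜ[R] algebraMap P Q (∏ x ∈ s.erase a, t x)) * ((1 : B) ⊗ₜ[R] algebraMap P Q (t a)) by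
          rw [Algebra.TensorProduct.tmul_mul_tmul, one_mul],
      mul_assoc, hta a (Finset.mem_coe.1 ha), mul_zero]
  | zero => rw [mul_zero]
  | add x y _ _ hx hy => rw [mul_add, hx, hy, add_zero]
  | smul r x _ hx => rw [smul_eq_mul, mul_left_comm, hx, mul_zero]

/-- A good chart becomes flat of finite presentation near the flat locus. -/
theorem exists_good_away {σ : Type u} [Finite σ] (π : MvPolynomial σ R →ₐ[R] Q) (hπ : Function.Surjective π)
    {B : Type u} [CommRing B] [Algebra R B] {g : B} (hg : g ∈ nonZeroDivisors B) (hG : Good (RingHom.ker π) B g) :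
    ∃ t ∈ T, ∀ t' : P, t ∣ t' →
      Algebra.FinitePresentation B (Localization.Away ((1 : B) ⊗ₜ[R] algebraMap P Q t')) ∧
        Module.Flat B (Localization.Away ((1 : B) ⊗ₜ[R] algebraMap P Q t')) := by
  classical
  let E := B ⊗[R] Q
  obtain ⟨θ, hθ, hθk⟩ := RzLib.UnivOpen.quot_bc π hπ (MvPolynomial.algebraTensorAlgEquiv (σ := σ) R B)
    (MvPolynomial.map (algebraMap R B)) fun x => by rw [MvPolynomial.algebraTensorAlgEquiv_tmul, one_smul]
  let sat := saturation ((RingHom.ker π).map (MvPolynomial.map (algebraMap R B))) (MvPolynomial.C g)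
  let K : Ideal E := sat.map θ
  have hK : ∀ a, a ∈ K ↔ ∃ n : ℕ, algebraMap B E g ^ n * a = 0 := by
    intro a
    obtain ⟨w, rfl⟩ := hθ a
    have key : ∀ n : ℕ, algebraMap B E g ^ n * θ w = θ (MvPolynomial.C g ^ n * w) := fun n => by
      rw [map_mul, map_pow, ← MvPolynomial.algebraMap_eq, AlgHom.commutes]
    have hw : θ w ∈ K ↔ w ∈ sat := by
      refine ⟨fun h => ?_, Ideal.mem_map_of_mem θ⟩
      obtain ⟨v, hv, hvw⟩ := (Ideal.mem_map_iff_of_surjective θ hθ).1 h
      have h1 : w - v ∈ RingHom.ker θ := by rw [RingHom.mem_ker, map_sub, hvw, sub_self]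
      rw [hθk] at h1
      have h2 : w - v ∈ sat := mem_saturation.2 ⟨0, by rw [pow_zero, one_mul]; exact h1⟩
      simpa using add_mem h2 hv
    rw [hw, mem_saturation]
    refine exists_congr fun n => ?_
    rw [key, ← RingHom.mem_ker, hθk]
  obtain ⟨hflat, hfp⟩ := flat_fp_torsion_quotient π hπ g hG K hK
  have hKfg : K.FG := hG.1.map θ.toRingHom
  obtain ⟨s, hs⟩ := hKfg
  obtain ⟨t, ht, hta⟩ := exists_kill_finset (P := P) T s fun a ha => by
    obtain ⟨n, hn⟩ := (hK a).1 (hs ▸ Ideal.subset_span ha)
    exact ⟨g ^ n, pow_mem hg n, by rw [map_pow]; exact hn⟩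
  refine ⟨t, ht, fun t' ⟨c, hc⟩ => ?_⟩
  refine fp_flat_away_of_killed K _ fun a ha => ?_
  rw [hc, mul_comm t, map_mul,
    show (1 : B) ⊗ₜ[R] (algebraMap P Q c * algebraMap P Q t) =
      ((1 : B) ⊗ₜ[R] algebraMap P Q c) * ((1 : B) ⊗ₜ[R] algebraMap P Q t) by
        rw [Algebra.TensorProduct.tmul_mul_tmul, one_mul],
    mul_assoc, hta a (hs.symm ▸ ha), mul_zero]

end Kill

/-- Flatness over a ring from flatness of the base changes to a cover. -/
theorem flat_of_cover {B N : Type u} [CommRing B] [AddCommGroup N] [Module B N] (A : Set B) (hA : Ideal.span A = ⊤)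
    (h : ∀ a : A, Module.Flat (Localization.Away a.1) (Localization.Away a.1 ⊗[B] N)) : Module.Flat B N := by
  refine Module.flat_of_isLocalized_span B N A hA (fun a : A => Localization.Away a.1 ⊗[B] N)
    (fun a => TensorProduct.mk B (Localization.Away a.1) N 1) fun a => ?_
  haveI := h a
  exact Module.Flat.trans B (Localization.Away a.1) _

theorem fg_flat_map_equiv {R Q Q₀ σ : Type u} [CommRing R] [CommRing Q] [Algebra R Q] [CommRing Q₀] [Algebra R Q₀]
    [Finite σ] (π : MvPolynomial σ R →ₐ[R] Q) (hπ : Function.Surjective π) (B : Type u) [CommRing B] [Algebra R B]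
    (e : B ⊗[R] Q ≃ₐ[B] B ⊗[R] Q₀) [Module.Flat B (B ⊗[R] Q₀)] [Algebra.FinitePresentation B (B ⊗[R] Q₀)] :
    ((RingHom.ker π).map (MvPolynomial.map (algebraMap R B))).FG ∧
      Module.Flat B (MvPolynomial σ B ⧸ (RingHom.ker π).map (MvPolynomial.map (algebraMap R B))) ∧
      Module.Flat B (B ⊗[R] (MvPolynomial σ R ⧸ RingHom.ker π)) := by
  let e' := (Algebra.TensorProduct.congr (AlgEquiv.refl (R := B) (A₁ := B))
    (Ideal.quotientKerAlgEquivOfSurjective hπ)).trans e
  haveI : Algebra.FinitePresentation B (B ⊗[R] (MvPolynomial σ R ⧸ RingHom.ker π)) :=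
    Algebra.FinitePresentation.equiv (R := B) (A := B ⊗[R] Q₀) (B := B ⊗[R] (MvPolynomial σ R ⧸ RingHom.ker π)) e'.symm
  haveI hf : Module.Flat B (B ⊗[R] (MvPolynomial σ R ⧸ RingHom.ker π)) := Module.Flat.of_linearEquiv e'.toLinearEquiv
  exact ⟨(fg_flat_map_of_fp (RingHom.ker π) B).1, (fg_flat_map_of_fp (RingHom.ker π) B).2, hf⟩

theorem fg_flat_map_away {R Q Q' σ : Type u} [CommRing R] [CommRing Q] [Algebra R Q] [CommRing Q'] [Algebra R Q']
    [Algebra Q Q'] [IsScalarTower R Q Q'] (s : Q) [IsLocalization.Away s Q'] [Finite σ]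
    (π : MvPolynomial σ R →ₐ[R] Q') (hπ : Function.Surjective π) (B : Type u) [CommRing B] [Algebra R B]
    [Module.Flat B (Localization.Away ((1 : B) ⊗ₜ[R] s))]
    [Algebra.FinitePresentation B (Localization.Away ((1 : B) ⊗ₜ[R] s))] :
    ((RingHom.ker π).map (MvPolynomial.map (algebraMap R B))).FG ∧
      Module.Flat B (B ⊗[R] (MvPolynomial σ R ⧸ RingHom.ker π)) := by
  let e := IsLocalization.Away.tensorProductEquivTMulRight R B s Q'
  haveI : Algebra.FinitePresentation B (B ⊗[R] Q') :=
    Algebra.FinitePresentation.equiv (R := B) (B := B ⊗[R] Q') e.symm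
  haveI := Module.Flat.of_linearEquiv e.toLinearEquiv
  exact ⟨(fg_flat_map_equiv π hπ B AlgEquiv.refl).1, (fg_flat_map_equiv π hπ B AlgEquiv.refl).2.2⟩

theorem fp_flat_away_baseChange {B E : Type u} [CommRing B] [CommRing E] [Algebra B E] (e : E) [Module.Flat B E]
    [Algebra.FinitePresentation B E] :
    Algebra.FinitePresentation B (Localization.Away e) ∧ Module.Flat B (Localization.Away e) := by
  haveI : Algebra.FinitePresentation E (Localization.Away e) := IsLocalization.Away.finitePresentation e
  haveI : Module.Flat E (Localization.Away e) := IsLocalization.flat _ (Submonoid.powers e)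
  exact ⟨Algebra.FinitePresentation.trans B E _, Module.Flat.trans B E _⟩

/-- **Spreading out flatness over a domain.** -/
theorem exists_flat_away {R P Q : Type u} [CommRing R] [IsDomain R] [CommRing P] [CommRing Q] [Algebra R P]
    [Algebra R Q] [Algebra P Q] [IsScalarTower R P Q] [Algebra.FiniteType R Q] (T : Submonoid P)
    [Module.Flat R (LocalizedModule T Q)] :
    ∃ t ∈ T, Module.Flat R (Localization.Away (algebraMap P Q t)) := by
  classical
  obtain ⟨σ, hσ, π, hπ⟩ := Algebra.FiniteType.iff_quotient_mvPolynomial'.1 ‹Algebra.FiniteType R Q›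
  let e := Ideal.quotientKerAlgEquivOfSurjective hπ
  obtain ⟨f, hf, hfree, -, hfp, -⟩ := FlatLib.generic_freeness_fp (R := R) (S := Q) (M := Q)
  let Rf := Localization.Away f
  haveI := hfp
  haveI := hfree
  haveI : Module.Flat Rf (Rf ⊗[R] Q) := inferInstance
  obtain ⟨hfgf, hflatf, -⟩ := fg_flat_map_equiv π hπ Rf AlgEquiv.refl
  obtain ⟨I, hI, -, hrad, hgood⟩ := exists_flattening_center ({f} : Finset R) (κ := PUnit.{u + 1})
    (fun _ => σ) (fun _ => RingHom.ker π)
    (fun _ j hj => by rw [Finset.mem_singleton.1 hj]; exact hflatf)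
    (fun _ j hj => by rw [Finset.mem_singleton.1 hj]; exact hfgf)
  obtain ⟨G, hG⟩ := hI
  let K := FractionRing R
  let x : G → K := fun l => algebraMap R K l.1
  have hx : ∃ l, x l ≠ 0 := by
    by_contra hcon
    simp only [not_exists, not_not] at hcon
    have hbot : I = ⊥ := by
      rw [← hG]
      exact Ideal.span_eq_bot.2 fun z hz => IsFractionRing.injective R K ((hcon ⟨z, hz⟩).trans (map_zero _).symm)
    obtain ⟨n, hn⟩ := hrad f (Finset.mem_singleton_self f)
    rw [hbot, Ideal.mem_bot] at hn
    exact hf (eq_zero_of_pow_eq_zero hn)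
  have hlocal : ∀ j, ∃ t ∈ T, x j ≠ 0 → ∃ A : Finset (chart R x j), Ideal.span (A : Set (chart R x j)) = ⊤ ∧
      ∀ a ∈ A, ∀ t' : P, t ∣ t' →
        Algebra.FinitePresentation (Localization.Away a)
          (Localization.Away ((1 : Localization.Away a) ⊗ₜ[R] algebraMap P Q t')) ∧
        Module.Flat (Localization.Away a)
          (Localization.Away ((1 : Localization.Away a) ⊗ₜ[R] algebraMap P Q t')) := by
    intro j
    by_cases hj : x j ≠ 0
    swap
    · exact ⟨1, one_mem T, fun h => absurd h hj⟩
    let B := chart R x j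
    let g : B := algebraMap R B j.1
    have hg : g ∈ nonZeroDivisors B := mem_nonZeroDivisors_of_ne_zero fun h0 => hj (congrArg Subtype.val h0)
    have hIB : I.map (algebraMap R B) = Ideal.span {g} := by
      rw [← hG, Ideal.map_span]
      refine le_antisymm (Ideal.span_le.2 ?_)
        ((Ideal.span_singleton_le_iff_mem _).2 (Ideal.subset_span ⟨j.1, j.2, rfl⟩))
      rintro _ ⟨l, hl, rfl⟩
      refine Ideal.mem_span_singleton'.2 ⟨⟨x ⟨l, hl⟩ / x j, div_mem_chart x j _⟩, Subtype.ext ?_⟩
      exact div_mul_cancel₀ _ hj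
    choose a ha hGood using hgood B g hg hIB
    have htop : Ideal.span (Set.range a) = ⊤ := by
      by_contra hne
      obtain ⟨m, hm, hle⟩ := Ideal.exists_le_maximal _ hne
      exact ha ⟨m, hm.isPrime⟩ (hle (Ideal.subset_span ⟨_, rfl⟩))
    obtain ⟨A, hA, hAtop⟩ := (Ideal.span_eq_top_iff_finite _).1 htop
    have hloc : ∀ b ∈ A, ∃ t ∈ T, ∀ t' : P, t ∣ t' →
        Algebra.FinitePresentation (Localization.Away b)
          (Localization.Away ((1 : Localization.Away b) ⊗ₜ[R] algebraMap P Q t')) ∧
        Module.Flat (Localization.Away b)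
          (Localization.Away ((1 : Localization.Away b) ⊗ₜ[R] algebraMap P Q t')) := fun b hb => by
      obtain ⟨q', rfl⟩ := hA hb
      exact exists_good_away T π hπ
        (IsLocalization.nonZeroDivisors_le_comap (Submonoid.powers (a q')) (Localization.Away (a q')) hg)
        (hGood q' (Localization.Away (a q')) PUnit.unit)
    choose! t ht htb using hloc
    exact ⟨∏ b ∈ A, t b, prod_mem ht, fun _ => ⟨A, hAtop, fun b hb t' ht' =>
      htb b hb t' ((Finset.dvd_prod_of_mem t hb).trans ht')⟩⟩
  choose t ht hA using hlocal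
  let tt : P := ∏ j, t j
  refine ⟨tt, prod_mem fun j _ => ht j, ?_⟩
  let s := algebraMap P Q tt
  let Q' := Localization.Away s
  haveI : Algebra.FinitePresentation Q Q' := IsLocalization.Away.finitePresentation s
  haveI : Algebra.FiniteType R Q' := Algebra.FiniteType.trans (S := Q) inferInstance inferInstance
  obtain ⟨σ', hσ', π', hπ'⟩ := Algebra.FiniteType.iff_quotient_mvPolynomial'.1 ‹Algebra.FiniteType R Q'›
  let e' := Ideal.quotientKerAlgEquivOfSurjective hπ'
  have hfgf' : ((RingHom.ker π').map (MvPolynomial.map (algebraMap R Rf))).FG := by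
    obtain ⟨h1, h2⟩ := fp_flat_away_baseChange (B := Rf) ((1 : Rf) ⊗ₜ[R] s)
    haveI := h1
    haveI := h2
    exact (fg_flat_map_away s π' hπ' Rf).1
  have hB : ∀ j, x j ≠ 0 → ((RingHom.ker π').map (MvPolynomial.map (algebraMap R (chart R x j)))).FG ∧
      Module.Flat (chart R x j) (chart R x j ⊗[R] (MvPolynomial σ' R ⧸ RingHom.ker π')) := by
    intro j hj
    obtain ⟨A, hAtop, hAgood⟩ := hA j hj
    let B := chart R x j
    have hdvd : t j ∣ tt := Finset.dvd_prod_of_mem t (Finset.mem_univ j)
    have hBa : ∀ b ∈ A, ((RingHom.ker π').map (MvPolynomial.map (algebraMap R (Localization.Away b)))).FG ∧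
        Module.Flat (Localization.Away b)
          (Localization.Away b ⊗[R] (MvPolynomial σ' R ⧸ RingHom.ker π')) := fun b hb => by
      obtain ⟨hfp, hfl⟩ := hAgood b hb tt hdvd
      haveI := hfp
      haveI := hfl
      exact fg_flat_map_away s π' hπ' (Localization.Away b)
    refine ⟨fg_of_local _ fun q' => ?_, flat_of_cover (B := chart R x j)
      (N := chart R x j ⊗[R] (MvPolynomial σ' R ⧸ RingHom.ker π')) (A : Set (chart R x j)) hAtop fun b => ?_⟩
    · obtain ⟨b, hb, hbq⟩ : ∃ b ∈ A, b ∉ q'.asIdeal := by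
        by_contra hcon
        simp only [not_exists, not_and, not_not] at hcon
        exact q'.isPrime.ne_top (top_le_iff.1 (hAtop ▸ Ideal.span_le.2 hcon))
      refine ⟨b, hbq, ?_⟩
      have e2 : (MvPolynomial.map (algebraMap B (Localization.Away b))).comp (MvPolynomial.map (algebraMap R B)) =
          (MvPolynomial.map (algebraMap R (Localization.Away b)) : MvPolynomial σ' R →+* _) := by
        ext <;> simp [← IsScalarTower.algebraMap_apply]
      rw [Ideal.map_map, e2]
      exact (hBa b hb).1
    · haveI := (hBa b.1 b.2).2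
      exact Module.Flat.of_linearEquiv
        (AlgebraTensorModule.cancelBaseChange R B (Localization.Away b.1) (Localization.Away b.1) _)
  have := (fg_flat_of_charts (RingHom.ker π') hf hfgf' x hx (fun j hj => (hB j hj).1) fun j hj => (hB j hj).2).2
  exact Module.Flat.of_linearEquiv e'.symm.toLinearEquiv

/-- The flat locus of a finite module over an algebra of finite type over a domain is open. -/
theorem isOpen_flatLocus_domain {R S M : Type u} [CommRing R] [IsDomain R] [CommRing S] [Algebra R S]
    [Algebra.FiniteType R S] [AddCommGroup M] [Module S M] [Module R M] [IsScalarTower R S M]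
    [Module.Finite S M] : IsOpen (FlatLib.flatLocus R S M) := by
  obtain ⟨ι, hfin, π, hπ⟩ := Algebra.FiniteType.iff_quotient_mvPolynomial'.1 ‹Algebra.FiniteType R S›
  let P := MvPolynomial ι R
  letI : Algebra P S := π.toRingHom.toAlgebra
  haveI : IsScalarTower R P S := IsScalarTower.of_algebraMap_eq fun r => (π.commutes r).symm
  letI : Module P M := Module.compHom M π.toRingHom
  haveI : IsScalarTower P S M := IsScalarTower.of_algebraMap_smul fun _ _ => rfl
  haveI : IsScalarTower R P M := IsScalarTower.of_algebraMap_smul fun r m => by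
    show π (algebraMap R P r) • m = r • m
    rw [π.commutes, algebraMap_smul]
  haveI : Module.Finite P S := Module.Finite.of_surjective (Algebra.linearMap P S) hπ
  haveI : Module.Finite P M := Module.Finite.trans S M
  rw [FlatLib.flatLocus_comap (P := P) hπ]
  refine IsOpen.preimage (PrimeSpectrum.continuous_comap _) ?_
  letI : Module Pᵐᵒᵖ M := Module.compHom M (RingEquiv.toOpposite P).symm.toRingHom
  haveI : IsCentralScalar P M := ⟨fun _ _ => rfl⟩
  haveI : IsScalarTower R Pᵐᵒᵖ M := ⟨fun r p m => by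
    show (r • p).unop • m = r • p.unop • m
    rw [MulOpposite.unop_smul, smul_assoc]⟩
  let Q := TrivSqZeroExt P M
  haveI : IsScalarTower R P Q := IsScalarTower.of_algebraMap_eq fun a => rfl
  haveI := finiteType_sqZero (A := R) P M
  let eQ : Q ≃ₗ[P] P × M := { AddEquiv.refl _ with map_smul' := fun p q => rfl }
  refine isOpen_iff_forall_mem_open.2 fun q hq => ?_
  haveI : Module.Flat R (LocalizedModule q.asIdeal.primeCompl Q) := by
    refine (FlatLib.flat_localized_iff q.asIdeal.primeCompl (LocalizedModule.mkLinearMap _ Q)).2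
      fun N' _ _ N x hx => ?_
    let pr : Q →ₗ[P] P := (LinearMap.fst P P M).comp eQ.toLinearMap
    let sn : Q →ₗ[P] M := (LinearMap.snd P P M).comp eQ.toLinearMap
    obtain ⟨t, ht, htx⟩ := (FlatLib.flat_localized_iff q.asIdeal.primeCompl (LocalizedModule.mkLinearMap _ M)).1 hq
      N' N (AlgebraTensorModule.rTensor R N sn x) (by
        show (N.subtype.lTensor M) ((sn.restrictScalars R).rTensor N x) = 0
        rw [← LinearMap.comp_apply, LinearMap.lTensor_comp_rTensor, ← LinearMap.rTensor_comp_lTensor,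
          LinearMap.comp_apply, hx, map_zero])
    have h1 : AlgebraTensorModule.rTensor R N pr x = 0 := by
      refine Module.Flat.lTensor_preserves_injective_linearMap (M := P) N.subtype Subtype.val_injective ?_
      show (N.subtype.lTensor P) ((pr.restrictScalars R).rTensor N x) = _
      rw [← LinearMap.comp_apply, LinearMap.lTensor_comp_rTensor, ← LinearMap.rTensor_comp_lTensor,
        LinearMap.comp_apply, hx, map_zero, map_zero]
    refine ⟨t, ht, ?_⟩
    let i₁ : P →ₗ[P] Q := eQ.symm.toLinearMap.comp (LinearMap.inl P P M)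
    let i₂ : M →ₗ[P] Q := eQ.symm.toLinearMap.comp (LinearMap.inr P P M)
    have hdec : i₁.comp pr + i₂.comp sn = LinearMap.id := LinearMap.ext fun y => by
      show eQ.symm ((eQ y).1, 0) + eQ.symm (0, (eQ y).2) = y
      rw [← map_add, Prod.mk_add_mk, add_zero, zero_add, Prod.mk.eta, LinearEquiv.symm_apply_apply]
    have hx' : x = AlgebraTensorModule.rTensor R N i₁ (AlgebraTensorModule.rTensor R N pr x) +
        AlgebraTensorModule.rTensor R N i₂ (AlgebraTensorModule.rTensor R N sn x) := by
      rw [← LinearMap.comp_apply, ← LinearMap.comp_apply, ← AlgebraTensorModule.rTensor_comp,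
        ← AlgebraTensorModule.rTensor_comp, ← LinearMap.add_apply, ← map_add, hdec, AlgebraTensorModule.rTensor_id,
        LinearMap.id_apply]
    rw [hx', h1, map_zero, zero_add, ← map_smul, htx, map_zero]
  obtain ⟨t, ht, hflat⟩ := exists_flat_away (R := R) (P := P) (Q := Q) q.asIdeal.primeCompl
  refine ⟨PrimeSpectrum.basicOpen t, fun q' hq' => ?_, (PrimeSpectrum.basicOpen t).isOpen, ht⟩
  haveI hQt : IsLocalization (Algebra.algebraMapSubmonoid Q (Submonoid.powers t))
      (Localization.Away (algebraMap P Q t)) := by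
    rw [Algebra.algebraMapSubmonoid, Submonoid.map_powers]
    exact inferInstanceAs (IsLocalization (Submonoid.powers (algebraMap P Q t)) _)
  haveI : IsLocalizedModule (Submonoid.powers t)
      (IsScalarTower.toAlgHom P Q (Localization.Away (algebraMap P Q t))).toLinearMap :=
    isLocalizedModule_iff_isLocalization.mpr hQt
  refine (FlatLib.flat_localized_iff q'.asIdeal.primeCompl (LocalizedModule.mkLinearMap _ M)).2
    fun N' _ _ N x hx => ?_
  let sn : Q →ₗ[P] M := (LinearMap.snd P P M).comp eQ.toLinearMap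
  let i₂ : M →ₗ[P] Q := eQ.symm.toLinearMap.comp (LinearMap.inr P P M)
  obtain ⟨u, hu, hux⟩ := (FlatLib.flat_localized_iff (Submonoid.powers t)
      (IsScalarTower.toAlgHom P Q (Localization.Away (algebraMap P Q t))).toLinearMap).1 hflat
      N' N (AlgebraTensorModule.rTensor R N i₂ x) (by
        show (N.subtype.lTensor Q) ((i₂.restrictScalars R).rTensor N x) = 0
        rw [← LinearMap.comp_apply, LinearMap.lTensor_comp_rTensor, ← LinearMap.rTensor_comp_lTensor,
          LinearMap.comp_apply, hx, map_zero])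
  refine ⟨u, ?_, ?_⟩
  · obtain ⟨n, rfl⟩ := hu
    exact fun hmem => hq' (q'.isPrime.mem_of_pow_mem n hmem)
  · have := congrArg (AlgebraTensorModule.rTensor R N sn) hux
    rw [map_smul, map_zero, ← LinearMap.comp_apply, ← AlgebraTensorModule.rTensor_comp,
      show sn.comp i₂ = LinearMap.id from LinearMap.ext fun y => rfl, AlgebraTensorModule.rTensor_id,
      LinearMap.id_apply] at this
    exact this

end FlatFPDomLib
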